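import Groth.Agent.InertiaGen.Theta

/-! Invariants of a group containing the decomposition group: same completion. -/

set_option autoImplicit false
set_option linter.style.haveILetI false
universe u v

namespace Groth.Agent.InertiaGen

open IsLocalRing

/-- High powers of an ideal lying in all primes over `p` meet the subring in high powers of `p`. -/
theorem exists_pow_inter_le {C R : Type u} [CommRing C] [CommRing R] [Algebra C R] [IsNoetherianRing C]
    [Module.Finite C R] (hinj : Function.Injective (algebraMap C R)) (p : Ideal C) [p.IsPrime] (K : Ideal R)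
    (hK : ∀ P : Ideal R, P.IsPrime → P.under C = p → K ≤ P) (n : ℕ) :
    ∃ N, ∀ c : C, algebraMap C R c ∈ K ^ N →
      algebraMap C (Localization.AtPrime p) c ∈ maximalIdeal (Localization.AtPrime p) ^ n := by
  let S := Algebra.algebraMapSubmonoid R p.primeCompl
  let Cp := Localization.AtPrime p
  let Rp := Localization S
  letI : Algebra Cp Rp := localizationAlgebra p.primeCompl R
  haveI : IsScalarTower C Cp Rp := IsScalarTower.of_algebraMap_eq fun x =>
    ((IsScalarTower.algebraMap_apply C R Rp x).trans (IsLocalization.map_eq (M := p.primeCompl) (T := S) (g := algebraMap C R) (Submonoid.le_comap_map _) x).symm)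
  haveI : Module.Finite Cp Rp := Module.Finite.of_isLocalization C R p.primeCompl
  haveI : IsNoetherianRing Cp := IsLocalization.isNoetherianRing p.primeCompl Cp ‹_›
  haveI : IsNoetherianRing Rp := IsNoetherianRing.of_finite Cp Rp
  haveI : IsLocalization (Submonoid.map (algebraMap C R) p.primeCompl) Rp := inferInstanceAs (IsLocalization S Rp)
  have hinj' : Function.Injective (algebraMap Cp Rp) :=
    IsLocalization.map_injective_of_injective p.primeCompl Cp Rp hinj
  let m := maximalIdeal Cp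
  have hrad : K.map (algebraMap R Rp) ≤ (m.map (algebraMap Cp Rp)).radical := by
    rw [Ideal.radical_eq_sInf]
    refine le_sInf fun Q ⟨hQ, hQp⟩ => ?_
    haveI := hQp
    have h1 : Q.comap (algebraMap Cp Rp) = m :=
      ((maximalIdeal.isMaximal Cp).eq_of_le (Ideal.IsPrime.comap _).ne_top (Ideal.map_le_iff_le_comap.1 hQ)).symm
    refine Ideal.map_le_iff_le_comap.2 (hK (Q.comap (algebraMap R Rp)) inferInstance ?_)
    show (Q.comap (algebraMap R Rp)).comap (algebraMap C R) = p
    rw [Ideal.comap_comap, ← IsScalarTower.algebraMap_eq, IsScalarTower.algebraMap_eq C Cp Rp, ← Ideal.comap_comap,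
      h1]
    exact Localization.AtPrime.under_maximalIdeal
  obtain ⟨M, hM⟩ := Ideal.exists_pow_le_of_le_radical_of_fg hrad (IsNoetherian.noetherian _)
  let L : Submodule Cp Rp := LinearMap.range (Algebra.linearMap Cp Rp)
  obtain ⟨c₀, hc₀⟩ := Ideal.exists_pow_inf_eq_pow_smul m L
  refine ⟨M * (n + c₀), fun c hc => ?_⟩
  have h1 : algebraMap Cp Rp (algebraMap C Cp c) ∈ m ^ (n + c₀) • (⊤ : Submodule Cp Rp) ⊓ L := by
    refine ⟨?_, ⟨_, rfl⟩⟩
    show algebraMap Cp Rp (algebraMap C Cp c) ∈ m ^ (n + c₀) • (⊤ : Submodule Cp Rp)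
    rw [Ideal.smul_top_eq_map, Submodule.restrictScalars_mem, Ideal.map_pow,
      ← IsScalarTower.algebraMap_apply, IsScalarTower.algebraMap_apply C R Rp]
    refine Ideal.pow_right_mono hM (n + c₀) ?_
    rw [← pow_mul, ← Ideal.map_pow]
    exact Ideal.mem_map_of_mem _ hc
  rw [hc₀ (n + c₀) (by omega), show n + c₀ - c₀ = n by omega] at h1
  have h2 : algebraMap Cp Rp (algebraMap C Cp c) ∈ Submodule.map (Algebra.linearMap Cp Rp) (m ^ n) := by
    have := Submodule.smul_mono le_rfl inf_le_right h1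
    rw [show L = Submodule.map (Algebra.linearMap Cp Rp) ⊤ from LinearMap.range_eq_map _,
      ← Submodule.map_smul''] at this
    simpa using this
  obtain ⟨z, hz, hzc⟩ := h2
  rwa [← hinj' hzc]

variable {A B' R : Type u} [CommRing A] [CommRing B'] [CommRing R] [Algebra A R] [Algebra A B'] [Algebra B' R]
  [IsScalarTower A B' R] {G : Type v} [Group G] [Finite G] [MulSemiringAction G R]

/-- An invariant element outside `q` in all the other conjugates. -/
theorem exists_sep (q : Ideal R) [q.IsPrime] (H : Subgroup G) (hD : dec G q ≤ H) :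
    ∃ e : R, (∀ τ ∈ H, τ • e = e) ∧ e ∉ q ∧ ∀ σ : G, σ ∉ H → σ • e ∈ q := by
  classical
  letI := Fintype.ofFinite G
  have hch : ∀ σ : G, ∃ y : R, y ∉ q ∧ (σ ∉ dec G q → σ • y ∈ q) := by
    intro σ
    by_cases h : σ ∈ dec G q
    · exact ⟨1, fun h1 => Ideal.IsPrime.ne_top ‹_› ((Ideal.eq_top_iff_one _).2 h1), fun h' => absurd h h'⟩
    · by_contra hcon
      push Not at hcon
      exact h fun x => mem_iff_of_forall_mem q (fun y hy => by
        by_contra hyq
        exact (hcon y hyq).2 hy) x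
  choose y hy hyσ using hch
  let Y := ∏ σ, y σ
  have hYq : Y ∉ q := fun h => by
    obtain ⟨σ, -, hσ⟩ := (Ideal.IsPrime.prod_mem_iff (hp := (inferInstance : q.IsPrime))).1 h
    exact hy σ hσ
  have hYσ : ∀ σ, σ ∉ dec G q → σ • Y ∈ q := fun σ hσ => by
    rw [Finset.smul_prod', ← Finset.mul_prod_erase _ _ (Finset.mem_univ σ)]
    exact Ideal.mul_mem_right _ _ (hyσ σ hσ)
  let Z : R := ∏ τ : dec G q, (τ : G) • Y
  have hZD : ∀ τ ∈ dec G q, τ • Z = Z := fun τ hτ => by
    rw [Finset.smul_prod']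
    exact Fintype.prod_equiv (Equiv.mulLeft (⟨τ, hτ⟩ : dec G q)) _ _ fun ρ => by rw [smul_smul]; rfl
  have hZq : Z ∉ q := fun h => by
    obtain ⟨τ, -, hτ⟩ := (Ideal.IsPrime.prod_mem_iff (hp := (inferInstance : q.IsPrime))).1 h
    exact hYq ((τ.2 Y).2 hτ)
  have hZσ : ∀ σ, σ ∉ dec G q → σ • Z ∈ q := fun σ hσ => by
    rw [Finset.smul_prod', ← Finset.mul_prod_erase _ _ (Finset.mem_univ (1 : dec G q))]
    exact Ideal.mul_mem_right _ _ (by rw [OneMemClass.coe_one, one_smul]; exact hYσ σ hσ)
  let O : Finset R := (Finset.univ.filter (· ∈ H)).image fun τ : G => τ • Z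
  have hZO : Z ∈ O := Finset.mem_image.2 ⟨1, by simp [H.one_mem], one_smul _ _⟩
  have hOother : ∀ r ∈ O, r ≠ Z → r ∈ q := fun r hr hne => by
    obtain ⟨τ, -, rfl⟩ := Finset.mem_image.1 hr
    exact hZσ τ fun h => hne (hZD τ h)
  refine ⟨∑ r ∈ O, r, fun τ hτ => ?_, fun h => ?_, fun σ hσ => ?_⟩
  · rw [Finset.smul_sum]
    refine Finset.sum_bij (fun r _ => τ • r) (fun r hr => ?_) (fun a _ b _ h => smul_left_cancel τ h) (fun r hr => ?_)
      fun r _ => rfl
    · obtain ⟨ρ, hρ, rfl⟩ := Finset.mem_image.1 hr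
      exact Finset.mem_image.2 ⟨τ * ρ, by simp at hρ ⊢; exact H.mul_mem hτ hρ, mul_smul _ _ _⟩
    · obtain ⟨ρ, hρ, rfl⟩ := Finset.mem_image.1 hr
      exact ⟨(τ⁻¹ * ρ) • Z, Finset.mem_image.2 ⟨_, by simp at hρ ⊢; exact H.mul_mem (H.inv_mem hτ) hρ, rfl⟩,
        by rw [smul_smul, mul_inv_cancel_left]⟩
  · rw [← Finset.add_sum_erase _ _ hZO] at h
    exact hZq ((Ideal.add_mem_iff_left _ (Ideal.sum_mem _ fun r hr =>
      hOother r (Finset.mem_of_mem_erase hr) (Finset.ne_of_mem_erase hr))).1 h)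
  · rw [Finset.smul_sum]
    refine Ideal.sum_mem _ fun r hr => ?_
    obtain ⟨τ, hτ, rfl⟩ := Finset.mem_image.1 hr
    rw [smul_smul]
    exact hZσ _ fun h => hσ (by simpa [mul_assoc] using H.mul_mem (hD h) (H.inv_mem (show τ ∈ H by simpa using hτ)))

/-- The completions agree. -/
theorem bijective_mod_pow [IsNoetherianRing A] [Module.Finite A R] [Algebra.IsInvariant A R G] [SMulCommClass G A R]
    (hinj : Function.Injective (algebraMap A R)) (hinj' : Function.Injective (algebraMap B' R))
    (q : Ideal R) [q.IsPrime] (H : Subgroup G) (hD : dec G q ≤ H)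
    (hrange : ∀ b : R, (∀ τ ∈ H, τ • b = b) → b ∈ Set.range (algebraMap B' R))
    (hfix : ∀ x : B', ∀ τ ∈ H, τ • algebraMap B' R x = algebraMap B' R x)
    (p : Ideal A) [p.IsPrime] (q' : Ideal B') [q'.IsPrime] (hq' : q' = q.comap (algebraMap B' R))
    (hp : p = q'.comap (algebraMap A B')) (n : ℕ) :
    Function.Surjective ((Ideal.Quotient.mk (maximalIdeal (Localization.AtPrime q') ^ n)).comp
        (Localization.localRingHom p q' (algebraMap A B') hp)) ∧
      Ideal.comap (Localization.localRingHom p q' (algebraMap A B') hp) (maximalIdeal (Localization.AtPrime q') ^ n) =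
        maximalIdeal (Localization.AtPrime p) ^ n := by
  classical
  letI := Fintype.ofFinite G
  haveI : IsNoetherian A R := isNoetherian_of_isNoetherianRing_of_finite A R
  haveI : Module.Finite A B' := Module.Finite.of_injective (IsScalarTower.toAlgHom A B' R).toLinearMap hinj'
  haveI : IsNoetherianRing B' := IsNoetherianRing.of_finite A B'
  haveI : Module.Finite B' R := Module.Finite.of_restrictScalars_finite A B' R
  haveI : Algebra.IsInvariant B' R H := ⟨fun b hb => hrange b fun τ hτ => hb ⟨τ, hτ⟩⟩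
  haveI : SMulCommClass H B' R := ⟨fun τ x r => by
    rw [Algebra.smul_def, Algebra.smul_def, smul_mul']
    exact congrArg (· * _) (hfix x τ τ.2)⟩
  haveI : Algebra.IsIntegral A R := Algebra.IsIntegral.of_finite A R
  obtain ⟨e, heH, heq, heσ⟩ := exists_sep q H hD
  obtain ⟨e', he'⟩ := hrange e heH
  let c (σ : G) : Ideal R := q.comap (MulSemiringAction.toRingHom G R σ)
  let J : Ideal R := ⨅ τ : H, c τ
  let K : Ideal R := ⨅ σ : G, c σ
  have memJ : ∀ r, r ∈ J ↔ ∀ τ ∈ H, τ • r ∈ q := fun r => by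
    simp only [J, c, Submodule.mem_iInf, Ideal.mem_comap, MulSemiringAction.toRingHom_apply, Subtype.forall]
  have memK : ∀ r, r ∈ K ↔ ∀ σ : G, σ • r ∈ q := fun r => by
    simp only [K, c, Submodule.mem_iInf, Ideal.mem_comap, MulSemiringAction.toRingHom_apply]
  have hJ : ∀ P : Ideal R, P.IsPrime → P.under B' = q' → J ≤ P := fun P hP hPq r hr => by
    haveI := hP
    obtain ⟨τ, hτ⟩ := Algebra.IsInvariant.exists_smul_of_under_eq B' R H q P (by rw [hPq, hq'])
    rw [hτ, Ideal.mem_pointwise_smul_iff_inv_smul_mem]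
    exact (memJ r).1 hr _ (τ⁻¹).2
  have hK : ∀ P : Ideal R, P.IsPrime → P.under A = p → K ≤ P := fun P hP hPp r hr => by
    haveI := hP
    obtain ⟨τ, hτ⟩ := Algebra.IsInvariant.exists_smul_of_under_eq A R G q P (by
      rw [hPp, hp, hq', Ideal.comap_comap, ← IsScalarTower.algebraMap_eq])
    rw [hτ, Ideal.mem_pointwise_smul_iff_inv_smul_mem]
    exact (memK r).1 hr _
  -- sums over cosets
  have trace : ∀ (N : ℕ) (x : B'), ∃ a : A,
      algebraMap A R a - e ^ N * algebraMap B' R x ∈ J ^ N ∧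
      ((∀ σ : G, σ • (e ^ N * algebraMap B' R x) ∈ K ^ N) → algebraMap A R a ∈ K ^ N) ∧
      algebraMap A R a = ∑ c : G ⧸ H, Quotient.out c • (e ^ N * algebraMap B' R x) := by
    intro N x
    set z := e ^ N * algebraMap B' R x with hz
    have hzH : ∀ τ ∈ H, τ • z = z := fun τ hτ => by rw [hz, smul_mul', smul_pow', heH τ hτ, hfix x τ hτ]
    have hwd : ∀ σ : G, Quotient.out (QuotientGroup.mk σ : G ⧸ H) • z = σ • z := fun σ => by
      obtain ⟨τ, hτ⟩ := QuotientGroup.mk_out_eq_mul H σ
      rw [hτ, mul_smul, hzH τ τ.2]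
    obtain ⟨a, ha⟩ := Algebra.IsInvariant.isInvariant (A := A) (G := G) (∑ c : G ⧸ H, Quotient.out c • z) fun σ => by
      rw [Finset.smul_sum]
      refine Fintype.sum_equiv (MulAction.toPerm σ) _ _ fun c => ?_
      rw [smul_smul, ← hwd]
      congr 2
      conv_rhs => rw [MulAction.toPerm_apply, ← QuotientGroup.out_eq' c]
      rfl
    refine ⟨a, ?_, fun h => ha ▸ Ideal.sum_mem _ fun c _ => h _, ha⟩
    rw [ha, ← Finset.add_sum_erase _ _ (Finset.mem_univ (QuotientGroup.mk (1 : G) : G ⧸ H)), hwd, one_smul,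
      add_sub_cancel_left]
    refine Ideal.sum_mem _ fun c hc => ?_
    have hcH : ∀ τ ∈ H, τ * Quotient.out c ∉ H := fun τ hτ h => Finset.ne_of_mem_erase hc (by
      rw [← QuotientGroup.out_eq' c]
      exact (QuotientGroup.eq.2 (by simpa using H.mul_mem (H.inv_mem hτ) h)).symm)
    rw [hz, smul_mul', smul_pow']
    exact Ideal.mul_mem_right _ _ (Ideal.pow_mem_pow ((memJ _).2 fun τ hτ => by
      rw [smul_smul]; exact heσ _ (hcH τ hτ)) N)
  have heK : ∀ y ∈ q', e * algebraMap B' R y ∈ K := fun y hy => (memK _).2 fun σ => by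
    rw [smul_mul']
    by_cases hσ : σ ∈ H
    · refine Ideal.mul_mem_left _ _ ?_
      rw [hfix y σ hσ]
      rw [hq'] at hy
      exact hy
    · exact Ideal.mul_mem_right _ _ (heσ σ hσ)
  have hKσ : ∀ (σ : G) (N : ℕ) r, r ∈ K ^ N → σ • r ∈ K ^ N := fun σ N r hr => by
    have := Ideal.mem_map_of_mem (MulSemiringAction.toRingHom G R σ) hr
    rw [Ideal.map_pow] at this
    exact Ideal.pow_right_mono (Ideal.map_le_iff_le_comap.2 fun x hx => (memK _).2 fun τ => by
      rw [MulSemiringAction.toRingHom_apply, smul_smul]; exact (memK x).1 hx _) N this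
  have hpow : ∀ (N : ℕ) (y : B'), y ∈ q' ^ N → e ^ N * algebraMap B' R y ∈ K ^ N := by
    intro N y hy
    have h1 : e ^ N * algebraMap B' R y = algebraMap B' R (e' ^ N * y) := by rw [map_mul, map_pow, he']
    rw [h1]
    have h2 : e' ^ N * y ∈ (Ideal.span {e'} * q') ^ N := by
      rw [mul_pow]
      exact Ideal.mul_mem_mul (Ideal.pow_mem_pow (Ideal.mem_span_singleton_self _) N) hy
    have h3 : Ideal.map (algebraMap B' R) (Ideal.span {e'} * q') ≤ K := by
      refine Ideal.map_le_iff_le_comap.2 (Ideal.mul_le.2 fun a ha b hb => ?_)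
      obtain ⟨d, rfl⟩ := Ideal.mem_span_singleton'.1 ha
      rw [Ideal.mem_comap, mul_assoc, map_mul, map_mul, he']
      exact K.mul_mem_left _ (heK b hb)
    have := Ideal.mem_map_of_mem (algebraMap B' R) h2
    rw [Ideal.map_pow] at this
    exact Ideal.pow_right_mono h3 N this
  let T := Localization.AtPrime q'
  let S := Localization.AtPrime p
  let φ := Localization.localRingHom p q' (algebraMap A B') hp
  have hφ : ∀ a, φ (algebraMap A S a) = algebraMap B' T (algebraMap A B' a) := fun a =>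
    Localization.localRingHom_to_map _ _ _ _ _
  have hmq : ∀ r, algebraMap B' R r ∈ q ↔ r ∈ q' := fun r => by rw [hq']; rfl
  have hmp : ∀ a, algebraMap A B' a ∈ q' ↔ a ∈ p := fun a => by rw [hp]; rfl
  have hJq : J ≤ q := fun r hr => by simpa using (memJ r).1 hr 1 H.one_mem
  -- surjectivity modulo any power
  have surjA : ∀ (n : ℕ) (x : B'), ∃ (a d : A), d ∉ p ∧
      algebraMap B' T x * algebraMap B' T (algebraMap A B' d) - algebraMap B' T (algebraMap A B' a) ∈
        maximalIdeal T ^ n := by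
    intro n x
    obtain ⟨N₀, hN₀⟩ := exists_pow_inter_le hinj' q' J hJ n
    obtain ⟨a, ha, -⟩ := trace (N₀ + 1) x
    obtain ⟨d, hd, -⟩ := trace (N₀ + 1) 1
    rw [map_one, mul_one] at hd
    refine ⟨a, d, fun h => ?_, ?_⟩
    · have h1 : algebraMap A R d ∈ q := by
        rw [IsScalarTower.algebraMap_apply A B' R, hmq, hmp]; exact h
      have := sub_mem h1 (hJq (Ideal.pow_le_self (Nat.succ_ne_zero N₀) hd))
      rw [sub_sub_cancel] at this
      exact heq (Ideal.IsPrime.mem_of_pow_mem inferInstance _ this)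
    · rw [← map_mul, ← map_sub]
      refine hN₀ _ (Ideal.pow_le_pow_right (Nat.le_succ N₀) ?_)
      rw [map_sub, map_mul, ← IsScalarTower.algebraMap_apply, ← IsScalarTower.algebraMap_apply]
      have : algebraMap B' R x * algebraMap A R d - algebraMap A R a =
          algebraMap B' R x * (algebraMap A R d - e ^ (N₀ + 1)) -
            (algebraMap A R a - e ^ (N₀ + 1) * algebraMap B' R x) := by ring
      rw [this]
      exact sub_mem (Ideal.mul_mem_left _ _ hd) ha
  have surj : ∀ (n : ℕ) (w : T), ∃ z : S, w - φ z ∈ maximalIdeal T ^ n := by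
    intro n w
    obtain ⟨x, s, rfl⟩ := IsLocalization.exists_mk'_eq q'.primeCompl w
    obtain ⟨a, d, hd, h⟩ := surjA n x
    obtain ⟨b, d', hd', h'⟩ := surjA (n + 1) s
    have hb : b ∉ p := fun hb => by
      have h1 : algebraMap B' T (algebraMap A B' b) ∈ maximalIdeal T := by
        rw [IsLocalization.AtPrime.to_map_mem_maximal_iff T q', hmp]; exact hb
      have := add_mem (Ideal.pow_le_self (Nat.succ_ne_zero n) h') h1
      rw [sub_add_cancel, ← map_mul, IsLocalization.AtPrime.to_map_mem_maximal_iff T q'] at this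
      exact (Ideal.IsPrime.mem_or_mem inferInstance this).elim s.2 (fun h2 => hd' ((hmp _).1 h2))
    refine ⟨IsLocalization.mk' S (a * d') (⟨d * b, p.primeCompl.mul_mem hd hb⟩ : p.primeCompl), ?_⟩
    set w := IsLocalization.mk' T x s
    set z := IsLocalization.mk' S (a * d') (⟨d * b, p.primeCompl.mul_mem hd hb⟩ : p.primeCompl)
    have hws : w * algebraMap B' T s = algebraMap B' T x := IsLocalization.mk'_spec _ _ _
    have hzz := congrArg φ (IsLocalization.mk'_spec S (a * d') (⟨d * b, p.primeCompl.mul_mem hd hb⟩ : p.primeCompl))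
    rw [map_mul φ, hφ, hφ] at hzz
    change φ z * _ = _ at hzz
    have hu : IsUnit (algebraMap B' T (algebraMap A B' (d * b))) :=
      IsLocalization.map_units T (⟨_, fun h2 => p.primeCompl.mul_mem hd hb ((hmp _).1 h2)⟩ : q'.primeCompl)
    rw [← Ideal.mul_unit_mem_iff_mem _ hu]
    have h'n : _ ∈ maximalIdeal T ^ n := Ideal.pow_le_pow_right (Nat.le_succ n) h'
    have key : (w - φ z) * algebraMap B' T (algebraMap A B' (d * b)) =
        algebraMap B' T (algebraMap A B' d') * (algebraMap B' T x * algebraMap B' T (algebraMap A B' d) -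
            algebraMap B' T (algebraMap A B' a)) -
          w * algebraMap B' T (algebraMap A B' d) *
            (algebraMap B' T s * algebraMap B' T (algebraMap A B' d') - algebraMap B' T (algebraMap A B' b)) := by
      rw [sub_mul, hzz, map_mul, map_mul, map_mul, map_mul]
      linear_combination (algebraMap B' T (algebraMap A B' d) * algebraMap B' T (algebraMap A B' d')) * hws
    rw [key]
    exact sub_mem (Ideal.mul_mem_left _ _ h) (Ideal.mul_mem_left _ _ h'n)
  haveI : IsLocalHom φ := Localization.isLocalHom_localRingHom _ _ _ _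
  -- the kernel is small
  have small : ∀ n : ℕ, ∃ M, ∀ z : S, φ z ∈ maximalIdeal T ^ M → z ∈ maximalIdeal S ^ n := by
    intro n
    obtain ⟨N₀, hN₀⟩ := exists_pow_inter_le hinj p K hK n
    refine ⟨N₀ + 1, fun z hz => ?_⟩
    obtain ⟨a, s, rfl⟩ := IsLocalization.exists_mk'_eq p.primeCompl z
    have h0 : algebraMap B' T (algebraMap A B' a) ∈ maximalIdeal T ^ (N₀ + 1) := by
      rw [← hφ, ← IsLocalization.mk'_spec S a s, map_mul]
      exact Ideal.mul_mem_right _ _ hz
    rw [← Localization.AtPrime.map_eq_maximalIdeal, ← Ideal.map_pow,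
      IsLocalization.algebraMap_mem_map_algebraMap_iff q'.primeCompl] at h0
    obtain ⟨u, hu, hua⟩ := h0
    obtain ⟨c, hc, -, hceq⟩ := trace (N₀ + 1) u
    obtain ⟨c', -, hc'K, hc'eq⟩ := trace (N₀ + 1) (u * algebraMap A B' a)
    have hcc : algebraMap A R (c * a) = algebraMap A R c' := by
      rw [map_mul, hceq, hc'eq, Finset.sum_mul]
      refine Finset.sum_congr rfl fun g _ => ?_
      rw [map_mul, ← IsScalarTower.algebraMap_apply, ← mul_assoc, smul_mul' _ _ (algebraMap A R a), smul_algebraMap]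
    have h1 := hN₀ (c * a) (Ideal.pow_le_pow_right (Nat.le_succ N₀) (by
      rw [hcc]
      exact hc'K fun σ => hKσ σ _ _ (hpow _ _ hua)))
    have hcp : c ∉ p := fun h => by
      have h1 : algebraMap A R c ∈ q := by rw [IsScalarTower.algebraMap_apply A B' R, hmq, hmp]; exact h
      have := sub_mem h1 (hJq (Ideal.pow_le_self (Nat.succ_ne_zero N₀) hc))
      rw [sub_sub_cancel] at this
      exact (Ideal.IsPrime.mem_or_mem inferInstance this).elim
        (fun h2 => heq (Ideal.IsPrime.mem_of_pow_mem inferInstance _ h2)) fun h2 => hu ((hmq _).1 h2)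
    rw [map_mul, Ideal.unit_mul_mem_iff_mem _ (IsLocalization.map_units S (⟨c, hcp⟩ : p.primeCompl))] at h1
    rw [IsLocalization.mk'_eq_mul_mk'_one]
    exact Ideal.mul_mem_right _ _ h1
  -- the maximal ideal extends
  have hmax : maximalIdeal T = (maximalIdeal S).map φ := by
    refine le_antisymm ?_ (Ideal.map_le_iff_le_comap.2 fun z hz => map_nonunit φ z hz)
    refine Submodule.le_of_le_smul_of_le_jacobson_bot (IsNoetherian.noetherian _) (IsLocalRing.maximalIdeal_le_jacobson ⊥) ?_
    intro w hw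
    obtain ⟨z, hz⟩ := surj 2 w
    rw [smul_eq_mul, ← pow_two, ← sub_add_cancel w (φ z), add_comm]
    refine Submodule.add_mem_sup (Ideal.mem_map_of_mem φ fun hu => ?_) hz
    have : φ z ∈ maximalIdeal T := by
      have := sub_mem hw (Ideal.pow_le_self two_ne_zero hz)
      rwa [sub_sub_cancel] at this
    exact this (hu.map φ)
  refine ⟨fun w => ?_, ?_⟩
  · obtain ⟨w, rfl⟩ := Ideal.Quotient.mk_surjective w
    obtain ⟨z, hz⟩ := surj n w
    exact ⟨z, (Ideal.Quotient.eq.2 hz).symm⟩
  · refine le_antisymm (fun z hz => ?_) ?_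
    · obtain ⟨M, hM⟩ := small n
      have h : maximalIdeal T ^ n ≤ (maximalIdeal T ^ M) ⊔ Ideal.map φ (maximalIdeal S ^ n) := le_sup_of_le_right (by
        rw [Ideal.map_pow, ← hmax])
      suffices h2 : ∀ w ∈ Ideal.map φ (maximalIdeal S ^ n), ∃ c ∈ maximalIdeal S ^ n, w - φ c ∈ maximalIdeal T ^ M by
        rw [Ideal.mem_comap, hmax, ← Ideal.map_pow] at hz
        obtain ⟨c, hc, hc'⟩ := h2 _ hz
        rw [← map_sub] at hc'
        simpa using add_mem (hM _ hc') hc
      intro w hw
      refine Submodule.span_induction ?_ ?_ ?_ ?_ hw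
      · rintro _ ⟨c, hc, rfl⟩
        exact ⟨c, hc, by simp⟩
      · exact ⟨0, zero_mem _, by simp⟩
      · rintro a b - - ⟨c, hc, hc'⟩ ⟨d, hd, hd'⟩
        exact ⟨c + d, add_mem hc hd, by simpa [add_sub_add_comm] using add_mem hc' hd'⟩
      · rintro r a - ⟨c, hc, hc'⟩
        obtain ⟨t, ht⟩ := surj M r
        refine ⟨t * c, Ideal.mul_mem_left _ _ hc, ?_⟩
        have : r • a - φ (t * c) = r * (a - φ c) + (r - φ t) * φ c := by rw [smul_eq_mul, map_mul]; ring
        rw [this]
        exact add_mem (Ideal.mul_mem_left _ _ hc') (Ideal.mul_mem_right _ _ ht)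
    · rw [← Ideal.map_le_iff_le_comap, Ideal.map_pow, hmax]

end Groth.Agent.InertiaGen
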