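import Groth.Agent.InertiaGen.Theta
import Groth.Agent.InertiaFixed7.Etale
import Mathlib.RingTheory.Etale.StandardEtale

/-! Invariants of the inertia group are étale over the invariants near the prime, for any ring. -/

set_option autoImplicit false
set_option linter.style.haveILetI false
universe u v

namespace Groth.Agent.InertiaGen

open Polynomial

theorem prod_dvd_mul_derivative {R : Type u} [CommRing R] [DecidableEq R] (O : Finset R) (h : R[X])
    (h0 : ∀ r ∈ O, h.eval r = 0) : (∏ r ∈ O, (X - C r)) ∣ h * derivative (∏ r ∈ O, (X - C r)) := by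
  rw [derivative_prod_finset, Finset.mul_sum]
  refine Finset.dvd_sum fun r hr => ?_
  rw [derivative_X_sub_C, mul_one, ← Finset.mul_prod_erase _ _ hr]
  exact mul_dvd_mul (dvd_iff_isRoot.2 (h0 r hr)) dvd_rfl

variable {A R B' : Type u} [CommRing A] [CommRing R] [CommRing B'] [Algebra A R] [Algebra A B'] [Algebra B' R]
  [IsScalarTower A B' R] {G : Type v} [Group G] [Finite G] [MulSemiringAction G R]

theorem exists_etale_away [Algebra.IsInvariant A R G] [SMulCommClass G A R]
    (hinj : Function.Injective (algebraMap A R)) (hinj' : Function.Injective (algebraMap B' R))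
    (q : Ideal R) [q.IsPrime]
    (hrange : ∀ b : R, (∀ τ ∈ q.inertia G, τ • b = b) → b ∈ Set.range (algebraMap B' R))
    (hfix : ∀ x : B', ∀ τ ∈ q.inertia G, τ • algebraMap B' R x = algebraMap B' R x) :
    ∃ g : B', algebraMap B' R g ∉ q ∧ Algebra.Etale A (Localization.Away g) := by
  classical
  letI := Fintype.ofFinite G
  haveI : Nontrivial R := ⟨⟨0, 1, fun h => Ideal.IsPrime.ne_top ‹q.IsPrime› ((Ideal.eq_top_iff_one _).2 (h ▸ q.zero_mem))⟩⟩
  obtain ⟨θ, hθI, hθsep⟩ := exists_theta G q
  obtain ⟨θ', hθ'⟩ := hrange θ hθI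
  -- the orbit of θ
  let O : Finset R := Finset.univ.image fun σ : G => σ • θ
  have hO : ∀ (σ : G), O.image (σ • ·) = O := fun σ => by
    simp only [O, Finset.image_image]
    ext r
    simp only [Finset.mem_image, Finset.mem_univ, true_and, Function.comp_apply, smul_smul]
    exact ⟨fun ⟨τ, h⟩ => ⟨σ * τ, h⟩, fun ⟨τ, h⟩ => ⟨σ⁻¹ * τ, by rwa [mul_inv_cancel_left]⟩⟩
  let F : R[X] := ∏ r ∈ O, (X - C r)
  have hFfix : ∀ σ : G, F.map (MulSemiringAction.toRingHom G R σ) = F := fun σ => by
    conv_rhs => rw [show F = ∏ r ∈ O.image (σ • ·), (X - C r) by rw [hO], Finset.prod_image fun a _ b _ h => smul_left_cancel σ h]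
    rw [Polynomial.map_prod]
    refine Finset.prod_congr rfl fun r _ => ?_
    rw [Polynomial.map_sub, map_X, map_C, MulSemiringAction.toRingHom_apply]
  have exists_map_eq : ∀ (P : R[X]), (∀ σ : G, P.map (MulSemiringAction.toRingHom G R σ) = P) →
      ∃ P₀ : A[X], P₀.map (algebraMap A R) = P := fun P hP =>
    InertiaFixed7.exists_map_eq (A := A) (G := G) P hP
  have hFlift : F ∈ lifts (algebraMap A R) := (Polynomial.mem_lifts F).2 (exists_map_eq F hFfix)
  obtain ⟨F₀, hF₀, -, hF₀m⟩ := Polynomial.lifts_and_degree_eq_and_monic hFlift (monic_prod_of_monic _ _ fun r _ => monic_X_sub_C r)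
  have hθO : θ ∈ O := Finset.mem_image.2 ⟨1, Finset.mem_univ _, one_smul _ _⟩
  have haev : ∀ p : A[X], algebraMap B' R (aeval θ' p) = (p.map (algebraMap A R)).eval θ := fun p => by
    rw [← aeval_algebraMap_apply, hθ', eval_map, aeval_def]
  have hF0 : aeval θ' F₀ = 0 := hinj' (by
    rw [haev, hF₀, map_zero, eval_prod]
    exact Finset.prod_eq_zero hθO (by simp))
  -- the derivative
  have hd : (derivative F).eval θ = ∏ r ∈ O.erase θ, (θ - r) := by
    rw [show F = (X - C θ) * ∏ r ∈ O.erase θ, (X - C r) from (Finset.mul_prod_erase _ _ hθO).symm,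
      derivative_mul, derivative_X_sub_C, one_mul, eval_add, eval_mul, eval_sub, eval_X, eval_C, sub_self, zero_mul,
      add_zero, eval_prod]
    simp
  have hdm : ∏ r ∈ O.erase θ, (θ - r) ∉ q := fun h => by
    obtain ⟨r, hr, hrm⟩ := (Ideal.IsPrime.prod_mem_iff (hp := (inferInstance : q.IsPrime))).1 h
    obtain ⟨hne, σ, -, rfl⟩ := (Finset.mem_erase.1 hr).imp_right Finset.mem_image.1
    exact hne (hθI σ (hθsep σ (by simpa using neg_mem hrm)))
  -- every element is a polynomial in θ over the derivative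
  have hH : ∀ x : B', ∃ H₀ : A[X], aeval θ' H₀ = aeval θ' (derivative F₀) * x := by
    intro x
    have hch : ∀ r : R, ∃ σ : G, r ∈ O → σ • θ = r := fun r => by
      by_cases hr : r ∈ O
      · obtain ⟨σ, -, hσ⟩ := Finset.mem_image.1 hr
        exact ⟨σ, fun _ => hσ⟩
      · exact ⟨1, fun h => absurd h hr⟩
    choose s hs using hch
    have hwd : ∀ σ τ : G, σ • θ = τ • θ → σ • algebraMap B' R x = τ • algebraMap B' R x := fun σ τ h => by
      have h1 : (τ⁻¹ * σ) • θ = θ := by rw [mul_smul, h, inv_smul_smul]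
      have := hfix x _ (hθsep (τ⁻¹ * σ) (by rw [h1, sub_self]; exact zero_mem q))
      rwa [mul_smul, inv_smul_eq_iff] at this
    let H : R[X] := ∑ r ∈ O, C (s r • algebraMap B' R x) * ∏ t ∈ O.erase r, (X - C t)
    obtain ⟨H₀, hH₀⟩ := exists_map_eq H fun σ => by
      conv_rhs => rw [show H = ∑ r ∈ O.image (σ • ·), C (s r • algebraMap B' R x) * ∏ t ∈ O.erase r, (X - C t) by rw [hO],
        Finset.sum_image fun a _ b _ h => smul_left_cancel σ h]
      rw [Polynomial.map_sum]
      refine Finset.sum_congr rfl fun r hr => ?_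
      rw [Polynomial.map_mul, map_C, MulSemiringAction.toRingHom_apply, Polynomial.map_prod]
      congr 1
      · congr 1
        rw [smul_smul]
        refine hwd _ _ ?_
        rw [mul_smul, hs r hr, hs _ (by rw [← hO σ]; exact Finset.mem_image_of_mem _ hr)]
      · have he : O.erase (σ • r) = (O.erase r).image (σ • ·) := by
          rw [Finset.image_erase fun a b h => smul_left_cancel σ h, hO]
        rw [he, Finset.prod_image fun a _ b _ h => smul_left_cancel σ h]
        exact Finset.prod_congr rfl fun t _ => by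
          rw [Polynomial.map_sub, map_X, map_C, MulSemiringAction.toRingHom_apply]
    refine ⟨H₀, hinj' ?_⟩
    rw [map_mul, haev, haev, hH₀, ← derivative_map, hF₀, hd, eval_finset_sum,
      Finset.sum_eq_single θ ?_ (fun h => absurd hθO h)]
    · rw [eval_mul, eval_C, eval_prod, mul_comm]
      congr 1
      · simp
      · rw [hwd (s θ) 1 (by rw [hs θ hθO, one_smul]), one_smul]
    · intro r hr hne
      rw [eval_mul, eval_prod, Finset.prod_eq_zero (Finset.mem_erase.2 ⟨fun h => hne h.symm, hθO⟩) (by simp), mul_zero]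
  -- the standard etale pair
  let P : StandardEtalePair A :=
    { f := F₀, monic_f := hF₀m, g := derivative F₀, cond := ⟨1, 0, 1, by simp⟩ }
  let g : B' := aeval θ' (derivative F₀)
  refine ⟨g, by rw [haev, ← derivative_map, hF₀, hd]; exact hdm, ?_⟩
  let T := Localization.Away g
  let x : T := algebraMap B' T θ'
  have hx : P.HasMap x := by
    refine ⟨by rw [aeval_algebraMap_apply, hF0, map_zero], ?_⟩
    rw [aeval_algebraMap_apply]
    exact IsLocalization.Away.algebraMap_isUnit g
  have hlaev : ∀ p : A[X], P.lift x hx (aeval P.X p) = algebraMap B' T (aeval θ' p) := fun p => by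
    rw [← aeval_algHom_apply, StandardEtalePair.lift_X, aeval_algebraMap_apply]
  have hu := P.hasMap_X.2
  have hbij : Function.Bijective (P.lift x hx) := by
    refine ⟨(injective_iff_map_eq_zero _).2 fun z hz => ?_, fun z => ?_⟩
    · obtain ⟨p, n, hp⟩ := StandardEtalePresentation.exists_mul_aeval_x_g_pow_eq_aeval_x
        ⟨P, P.X, P.hasMap_X, by simpa [StandardEtalePair.lift_X_left] using Function.bijective_id⟩ z
      have h1 : algebraMap B' T (aeval θ' p) = 0 := by
        rw [← hlaev, ← hp, map_mul, hz, zero_mul]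
      obtain ⟨⟨_, N, rfl⟩, hN⟩ := (IsLocalization.map_eq_zero_iff (Submonoid.powers g) T _).1 h1
      let p' : A[X] := p * derivative F₀ ^ N
      have h2 : aeval θ' p' = 0 := by
        rw [map_mul, map_pow, mul_comm]
        exact hN
      have h3 : ∀ r ∈ O, (p'.map (algebraMap A R)).eval r = 0 := by
        intro r hr
        obtain ⟨σ, -, rfl⟩ := Finset.mem_image.1 hr
        have h0 : (p'.map (algebraMap A R)).eval θ = 0 := by rw [← haev, h2, map_zero]
        have h4 : MulSemiringAction.toAlgHom A R σ θ = σ • θ := rfl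
        rw [eval_map, ← aeval_def, ← h4, aeval_algHom_apply, aeval_def, ← eval_map, h0, map_zero]
      have h5 : F₀ ∣ p' * derivative F₀ := by
        rw [← Polynomial.map_dvd_map _ hinj hF₀m, Polynomial.map_mul, ← derivative_map, hF₀]
        exact prod_dvd_mul_derivative O _ h3
      obtain ⟨w, hw⟩ := h5
      have h6 : aeval P.X p * aeval P.X P.g ^ (N + 1) = 0 := by
        rw [pow_succ, ← mul_assoc, ← map_pow, ← map_mul, ← map_mul,
          show p * derivative F₀ ^ N * derivative F₀ = F₀ * w from hw, map_mul, P.hasMap_X.1, zero_mul]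
      rw [← hp, mul_assoc, ← pow_add] at h6
      exact (hu.pow _).mul_left_eq_zero.1 h6
    · obtain ⟨y, ⟨_, N, rfl⟩, rfl⟩ := IsLocalization.exists_mk'_eq (Submonoid.powers g) z
      obtain ⟨H₀, hH₀⟩ := hH y
      refine ⟨aeval P.X H₀ * ↑((hu.pow (N + 1)).unit⁻¹), IsLocalization.eq_mk'_iff_mul_eq.2 ?_⟩
      have hw : IsUnit (P.lift x hx (aeval P.X P.g ^ (N + 1))) := (hu.pow _).map _
      refine hw.mul_left_cancel ?_
      show _ * (P.lift x hx (aeval P.X H₀ * ↑((hu.pow (N + 1)).unit⁻¹)) * algebraMap B' T (g ^ N)) = _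
      calc P.lift x hx (aeval P.X P.g ^ (N + 1)) *
            (P.lift x hx (aeval P.X H₀ * ↑((hu.pow (N + 1)).unit⁻¹)) * algebraMap B' T (g ^ N))
          = P.lift x hx ((aeval P.X P.g ^ (N + 1) * ↑((hu.pow (N + 1)).unit⁻¹)) * aeval P.X H₀) *
              algebraMap B' T (g ^ N) := by simp only [map_mul]; ring
        _ = algebraMap B' T (g ^ (N + 1) * y) := by
          rw [IsUnit.mul_val_inv, one_mul, hlaev, ← map_mul, hH₀]; congr 1; ring
        _ = P.lift x hx (aeval P.X P.g ^ (N + 1)) * algebraMap B' T y := by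
          rw [map_mul (algebraMap B' T), map_pow (P.lift x hx), hlaev, map_pow (algebraMap B' T)]
  exact Algebra.Etale.of_equiv (AlgEquiv.ofBijective _ hbij)

end Groth.Agent.InertiaGen
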