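import Groth.Agent.InertiaGen.Etale
import Groth.Agent.IndEtLib.Sys
import Mathlib.FieldTheory.Galois.Profinite
import Mathlib.RingTheory.IntegralClosure.IsIntegralClosure.Basic

/-! The inertia invariants of an integral closure are ind-étale over the base near the prime. -/

set_option autoImplicit false
set_option linter.style.haveILetI false
universe u

namespace Groth.Agent.InertiaGen

variable {A K L : Type u} [CommRing A] [Field K] [Field L] [Algebra A K] [Algebra K L] [Algebra A L]
  [IsScalarTower A K L]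

/-- The action on the integral closure. -/
noncomputable def icHom (A K M : Type u) [CommRing A] [Field K] [Field M] [Algebra A K] [Algebra K M]
    [Algebra A M] [IsScalarTower A K M] : (M ≃ₐ[K] M) →* RingAut (integralClosure A M) where
  toFun σ := ((σ.restrictScalars A).mapIntegralClosure).toRingEquiv
  map_one' := RingEquiv.ext fun x => Subtype.ext rfl
  map_mul' a b := RingEquiv.ext fun x => Subtype.ext rfl

theorem etale_away_mul {A S : Type u} [CommRing A] [CommRing S] [Algebra A S] (g x : S)
    [Algebra.Etale A (Localization.Away g)] : Algebra.Etale A (Localization.Away (g * x)) := by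
  let N' := Localization.Away (algebraMap S (Localization.Away g) x)
  haveI : Algebra.Etale A N' := Algebra.Etale.comp A (Localization.Away g) N'
  haveI : IsLocalization.Away (g * x) N' := by
    rw [mul_comm]; exact IsLocalization.Away.mul (Localization.Away g) N' g x
  exact Algebra.Etale.of_equiv
    ((IsLocalization.algEquiv (Submonoid.powers (g * x)) N' (Localization.Away (g * x))).restrictScalars A)

variable [IsGalois K L]

theorem isOpen_setOf_apply (x : L) (P : L → Prop) : IsOpen {σ : L ≃ₐ[K] L | P (σ x)} := by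
  rw [isOpen_iff_mem_nhds]
  intro σ hσ
  refine Filter.mem_of_superset (((stabilizer_isOpen_of_isIntegral x).leftCoset σ).mem_nhds
    ⟨1, Subgroup.one_mem _, mul_one σ⟩) ?_
  rintro _ ⟨τ, hτ, rfl⟩
  show P (σ (τ x))
  have : τ x = x := hτ
  rwa [this]

theorem isIndEtale_inertia [IsDomain A] [IsIntegrallyClosed A] [IsFractionRing A K]
    (q : Ideal (integralClosure A L)) [q.IsPrime] (I : Subgroup (L ≃ₐ[K] L))
    (hI : ∀ σ : L ≃ₐ[K] L, σ ∈ I ↔ ∀ b : integralClosure A L, ∃ c ∈ q, (c : L) = σ b - b)
    (B' : Type u) [CommRing B'] [Algebra A B'] (ι : B' →ₐ[A] integralClosure A L) (hι : Function.Injective ι)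
    (hrange : ∀ b : integralClosure A L, b ∈ Set.range ι ↔ ∀ σ ∈ I, σ (b : L) = b)
    (q' : Ideal B') [q'.IsPrime] (hq' : q' = q.comap ι) :
    EtPBC.IsIndEtale A (Localization.AtPrime q') := by
  classical
  let B := integralClosure A L
  let T := Localization.AtPrime q'
  haveI : IsDomain B' := hι.isDomain ι.toRingHom
  have hT : Function.Injective (algebraMap B' T) :=
    IsLocalization.injective T (Ideal.primeCompl_le_nonZeroDivisors q')
  haveI : IsDomain T := IsLocalization.isDomain_localization (Ideal.primeCompl_le_nonZeroDivisors q')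
  haveI : CompactSpace (L ≃ₐ[K] L) := inferInstance
  -- finitely many tests for being fixed by the inertia group
  have htest : ∀ b : B', ∃ t : Finset B, ∀ σ : L ≃ₐ[K] L,
      (∀ x ∈ t, ∃ c ∈ q, (c : L) = σ x - x) → σ (ι b : L) = ι b := by
    intro b
    let U : Option B → Set (L ≃ₐ[K] L) := fun o => o.elim {σ | σ (ι b : L) = ι b}
      fun x => {σ | ¬ ∃ c ∈ q, (c : L) = σ (x : L) - x}
    have hU : ∀ o, IsOpen (U o) := fun o => by
      cases o with
      | none => exact isOpen_setOf_apply (ι b : L) (fun y => y = ι b)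
      | some x => exact isOpen_setOf_apply (x : L) (fun y => ¬ ∃ c ∈ q, (c : L) = y - x)
    obtain ⟨t, ht⟩ := isCompact_univ.elim_finite_subcover U hU fun σ _ => by
      by_cases h : σ ∈ I
      · exact Set.mem_iUnion.2 ⟨none, (hrange _).1 ⟨b, rfl⟩ σ h⟩
      · rw [hI] at h
        push Not at h
        obtain ⟨x, hx⟩ := h
        exact Set.mem_iUnion.2 ⟨some x, fun ⟨c, hc, hc'⟩ => hx c hc hc'⟩
    refine ⟨t.eraseNone, fun σ hσ => ?_⟩
    obtain ⟨o, hot, ho⟩ := Set.mem_iUnion₂.1 (ht (Set.mem_univ σ))
    cases o with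
    | none => exact ho
    | some x => exact absurd (hσ x (Finset.mem_eraseNone.2 hot)) ho
  choose test htest using htest
  refine IndEtLib.isIndEtale_of_factor fun P _ _ _ φ => ?_
  obtain ⟨s, hs⟩ := Algebra.FiniteType.out (R := A) (A := P)
  choose bs hbs using fun p : P => IsLocalization.surj q'.primeCompl (φ p)
  let num : P → B' := fun p => (bs p).1
  let den : P → B' := fun p => (bs p).2
  let F : Finset B' := s.image num ∪ s.image den
  let gens : Finset L := (F.image fun b => (ι b : L)) ∪ F.biUnion fun b => (test b).image fun x : B => (x : L)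
  let E := FiniteGaloisIntermediateField.adjoin K (gens : Set L)
  have hE : ∀ y ∈ gens, y ∈ E.toIntermediateField := fun y hy => FiniteGaloisIntermediateField.subset_adjoin _ _ hy
  let M := E.toIntermediateField
  let R := integralClosure A M
  let G := M ≃ₐ[K] M
  letI : MulSemiringAction G R := MulSemiringAction.compHom R (icHom A K M)
  have hsmul : ∀ (σ : G) (x : R), ((σ • x : R) : M) = σ (x : M) := fun σ x => rfl
  haveI : SMulCommClass G A R := ⟨fun σ a x => Subtype.ext (by
    show σ ((a • x : R) : M) = a • σ (x : M)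
    rw [Subalgebra.coe_smul]
    exact map_smul (σ.restrictScalars A) a (x : M))⟩
  haveI : Algebra.IsInvariant A R G := ⟨fun x hx => by
    have h : (x : M) ∈ (⊥ : IntermediateField K M) := (IsGalois.mem_bot_iff_fixed _).2 fun σ => by
      rw [← hsmul, hx σ]
    obtain ⟨k, hk⟩ := IntermediateField.mem_bot.1 h
    have hki : IsIntegral A k := by
      rw [← isIntegral_algebraMap_iff (algebraMap K M).injective, hk]
      exact x.2
    obtain ⟨a, ha⟩ := IsIntegrallyClosed.isIntegral_iff.1 hki
    refine ⟨a, Subtype.ext ?_⟩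
    show algebraMap A M a = _
    rw [IsScalarTower.algebraMap_apply A K M, ha, hk]⟩
  let j : R →ₐ[A] B := (M.val.restrictScalars A).mapIntegralClosure
  have hj : ∀ x : R, (j x : L) = ((x : M) : L) := fun x => rfl
  let qM : Ideal R := q.comap j
  haveI : qM.IsPrime := Ideal.IsPrime.comap _
  let SI : Subalgebra A R :=
    { FixedPoints.subring R (qM.inertia G) with
      algebraMap_mem' := fun a τ => smul_algebraMap (τ : G) a }
  have hres : ∀ σ ∈ I, σ.restrictNormalHom M ∈ qM.inertia G := fun σ hσ x => by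
    obtain ⟨c, hc, hc'⟩ := (hI σ).1 hσ (j x)
    show j (σ.restrictNormalHom M • x - x) ∈ q
    have : j (σ.restrictNormalHom M • x - x) = c := Subtype.ext (by
      rw [map_sub, Subalgebra.coe_sub, hc', hj, hj, hsmul]
      exact congrArg (· - _) (AlgEquiv.restrictNormal_commutes σ M (x : M)))
    rwa [this]
  have hfixI : ∀ x : SI, ∀ σ ∈ I, σ (j (x : R) : L) = (j (x : R) : L) := fun x σ hσ => by
    have h := x.2 ⟨_, hres σ hσ⟩
    rw [hj]
    calc σ ((x.1 : M) : L) = ((σ.restrictNormalHom M (x.1 : M) : M) : L) :=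
          (AlgEquiv.restrictNormal_commutes σ M (x.1 : M)).symm
      _ = ((x.1 : M) : L) := by
          rw [← hsmul]
          exact congrArg (fun r : R => ((r : M) : L)) h
  let κ : SI →ₐ[A] B' :=
    (AlgEquiv.ofInjective ι hι).symm.toAlgHom.comp ((j.comp SI.val).codRestrict ι.range fun x =>
      (hrange _).2 (hfixI x))
  have hκ : ∀ x : SI, ι (κ x) = j (x : R) := fun x => by
    show ι ((AlgEquiv.ofInjective ι hι).symm _) = _
    rw [← AlgEquiv.ofInjective_apply ι hι, AlgEquiv.apply_symm_apply]
    rfl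
  have hκinj : Function.Injective κ := fun x y h => by
    have := congrArg ι h
    rw [hκ, hκ] at this
    exact Subtype.ext (Subtype.ext (Subtype.ext (by rw [← hj, ← hj, this])))
  -- the chosen elements live at this stage
  have hmem : ∀ b ∈ F, ∃ x : SI, κ x = b := by
    intro b hb
    have hbE : (ι b : L) ∈ M := hE _ (Finset.mem_union_left _ (Finset.mem_image_of_mem _ hb))
    let x₀ : R := ⟨⟨_, hbE⟩, (isIntegral_algHom_iff (M.val.restrictScalars A) Subtype.val_injective).1 (ι b).2⟩
    refine ⟨⟨x₀, fun τ => ?_⟩, hι ((hκ _).trans (Subtype.ext rfl))⟩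
    obtain ⟨σ, hσ⟩ := AlgEquiv.restrictNormalHom_surjective L (τ : G)
    apply Subtype.ext
    apply Subtype.ext
    show (((τ : G) ⟨_, hbE⟩ : M) : L) = ι b
    rw [← hσ]
    refine (AlgEquiv.restrictNormal_commutes σ M _).trans (htest b σ fun x hx => ?_)
    have hxE : (x : L) ∈ M := hE _ (Finset.mem_union_right _
      (Finset.mem_biUnion.2 ⟨b, hb, Finset.mem_image_of_mem _ hx⟩))
    let y : R := ⟨⟨_, hxE⟩, (isIntegral_algHom_iff (M.val.restrictScalars A) Subtype.val_injective).1 x.2⟩
    refine ⟨j ((τ : G) • y - y), τ.2 y, ?_⟩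
    rw [map_sub, Subalgebra.coe_sub, hj, hj, hsmul, ← hσ]
    exact congrArg (· - _) (AlgEquiv.restrictNormal_commutes σ M _)
  haveI : IsScalarTower A SI R := IsScalarTower.of_algebraMap_eq fun _ => rfl
  obtain ⟨g, hg, hget⟩ := exists_etale_away (A := A) (B' := SI) (G := G)
    (fun a b h => (IsFractionRing.injective A K) ((algebraMap K M).injective (by
      rw [← IsScalarTower.algebraMap_apply, ← IsScalarTower.algebraMap_apply]
      exact congrArg Subtype.val h)))
    Subtype.val_injective qM (fun b hb => ⟨⟨b, fun τ => hb τ.1 τ.2⟩, rfl⟩) (fun x τ hτ => x.2 ⟨τ, hτ⟩)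
  have hκg : κ g ∉ q' := by
    rw [hq', Ideal.mem_comap, hκ]
    exact hg
  have hden : ∀ p ∈ s, ∃ x : SI, κ x = den p ∧ κ x ∉ q' := fun p hp => by
    obtain ⟨x, hx⟩ := hmem (den p) (Finset.mem_union_right _ (Finset.mem_image_of_mem _ hp))
    exact ⟨x, hx, hx ▸ (bs p).2.2⟩
  choose xd hxd hxd' using hden
  let h : SI := g * ∏ p : s, xd p.1 p.2
  have hκh : κ h ∉ q' := by
    rw [map_mul, map_prod]
    exact fun hm => (Ideal.IsPrime.mem_or_mem ‹q'.IsPrime› hm).elim hκg fun hm => by
      obtain ⟨p, -, hp⟩ := (Ideal.IsPrime.prod_mem_iff (hp := ‹q'.IsPrime›)).1 hm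
      exact hxd' _ p.2 hp
  let N := Localization.Away h
  haveI := hget
  have hN : Algebra.Etale A N := etale_away_mul g (∏ p : s, xd p.1 p.2)
  let f : SI →ₐ[A] T := (IsScalarTower.toAlgHom A B' T).comp κ
  have hfu : ∀ z : Submonoid.powers h, IsUnit (f z) := by
    rintro ⟨_, n, rfl⟩
    rw [map_pow]
    exact (IsLocalization.map_units T (⟨κ h, hκh⟩ : q'.primeCompl)).pow n
  let β : N →ₐ[A] T := IsLocalization.liftAlgHom (M := Submonoid.powers h) (f := f) hfu
  have hβ : ∀ x : SI, β (algebraMap SI N x) = algebraMap B' T (κ x) := fun x =>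
    IsLocalization.lift_eq (M := Submonoid.powers h) hfu x
  have hβinj : Function.Injective β := (injective_iff_map_eq_zero β).2 fun z hz => by
    obtain ⟨x, t, rfl⟩ := IsLocalization.exists_mk'_eq (Submonoid.powers h) z
    have : β (algebraMap SI N x) = 0 := by rw [← IsLocalization.mk'_spec N x t, map_mul, hz, zero_mul]
    rw [hβ, map_eq_zero_iff _ hT, map_eq_zero_iff _ hκinj] at this
    rw [this, IsLocalization.mk'_zero]
  have hφ : φ.range ≤ β.range := by
    rw [← Algebra.map_top, ← hs, AlgHom.map_adjoin]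
    refine Algebra.adjoin_le ?_
    rintro _ ⟨p, hp, rfl⟩
    obtain ⟨xn, hxn⟩ := hmem (num p) (Finset.mem_union_left _ (Finset.mem_image_of_mem _ hp))
    have hu : IsUnit (algebraMap SI N (xd p hp)) :=
      isUnit_of_dvd_unit (map_dvd _ (dvd_mul_of_dvd_right (Finset.dvd_prod_of_mem (fun q : s => xd q.1 q.2)
        (Finset.mem_univ ⟨p, hp⟩)) g)) (IsLocalization.Away.algebraMap_isUnit h)
    refine ⟨algebraMap SI N xn * ↑hu.unit⁻¹, (IsLocalization.map_units T (bs p).2).mul_right_cancel ?_⟩
    rw [hbs p]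
    show β (algebraMap SI N xn * ↑hu.unit⁻¹) * algebraMap B' T (den p) = algebraMap B' T (num p)
    rw [← hxd p hp, ← hxn, ← hβ, ← hβ, ← map_mul, mul_assoc, IsUnit.val_inv_mul, mul_one]
  refine ⟨N, inferInstance, inferInstance, hN,
    (AlgEquiv.ofInjective β hβinj).symm.toAlgHom.comp (φ.codRestrict β.range fun x => hφ ⟨x, rfl⟩), β,
    AlgHom.ext fun x => ?_⟩
  show β ((AlgEquiv.ofInjective β hβinj).symm _) = _
  rw [← AlgEquiv.ofInjective_apply β hβinj, AlgEquiv.apply_symm_apply]
  rfl

end Groth.Agent.InertiaGen
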