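import Groth.Agent.InertiaFixed7.Theta

/-! An inertia-invariant element separating the cosets of the inertia group modulo any prime ideal. -/

set_option autoImplicit false
set_option linter.style.haveILetI false
universe u v

namespace Groth.Agent.InertiaGen

open Polynomial Groth.Agent.InertiaFixed7

variable {R : Type u} [CommRing R] {G : Type v} [Group G] [Finite G] [MulSemiringAction G R]

/-- An automorphism in a finite group which maps a prime into itself fixes it. -/
theorem mem_iff_of_forall_mem (q : Ideal R) {σ : G} (h : ∀ x, σ • x ∈ q → x ∈ q) (x : R) :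
    x ∈ q ↔ σ • x ∈ q := by
  refine ⟨fun hx => ?_, h x⟩
  obtain ⟨n, hn, hσn⟩ : ∃ n, 0 < n ∧ σ ^ n = 1 := ⟨orderOf σ, orderOf_pos σ, pow_orderOf_eq_one σ⟩
  obtain ⟨m, rfl⟩ : ∃ m, n = m + 1 := ⟨n - 1, by omega⟩
  have key : ∀ (i : ℕ) (y : R), σ ^ i • y ∈ q → y ∈ q := by
    intro i
    induction i with
    | zero => intro y hy; simpa using hy
    | succ i ih => intro y hy; exact h y (ih _ (by rwa [pow_succ, mul_smul] at hy))
  refine key m _ ?_
  rwa [← mul_smul, ← pow_succ, hσn, one_smul]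

variable (q : Ideal R) [q.IsPrime] (G)

/-- The decomposition group. -/
def dec : Subgroup G where
  carrier := {σ | ∀ x, x ∈ q ↔ σ • x ∈ q}
  one_mem' := fun x => by rw [one_smul]
  mul_mem' := fun {a b} ha hb x => by rw [mul_smul]; exact (hb x).trans (ha _)
  inv_mem' := fun {a} ha x => by rw [ha (a⁻¹ • x), smul_inv_smul]

/-- Its action on the residue ring. -/
noncomputable def decHom : dec G q →* RingAut (R ⧸ q) where
  toFun σ := Ideal.quotientEquiv q q (MulSemiringAction.toRingEquiv G R (σ : G)) (by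
    ext y
    rw [Ideal.map_comap_of_equiv, Ideal.mem_comap]
    show y ∈ q ↔ (σ : G)⁻¹ • y ∈ q
    exact ((dec G q).inv_mem σ.2) y)
  map_one' := RingEquiv.ext fun x => by
    obtain ⟨x, rfl⟩ := Ideal.Quotient.mk_surjective x
    exact congrArg (Ideal.Quotient.mk q) (one_smul G x)
  map_mul' a b := RingEquiv.ext fun x => by
    obtain ⟨x, rfl⟩ := Ideal.Quotient.mk_surjective x
    exact congrArg (Ideal.Quotient.mk q) (mul_smul (a : G) (b : G) x)

/-- Its action on the residue field. -/
noncomputable def decFrac : dec G q →* RingAut (FractionRing (R ⧸ q)) where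
  toFun σ := IsFractionRing.ringEquivOfRingEquiv (decHom G q σ)
  map_one' := RingEquiv.toRingHom_injective (IsLocalization.ringHom_ext (nonZeroDivisors (R ⧸ q))
    (RingHom.ext fun x => by
      simp [RingAut.one_apply, map_one]))
  map_mul' a b := RingEquiv.toRingHom_injective (IsLocalization.ringHom_ext (nonZeroDivisors (R ⧸ q))
    (RingHom.ext fun x => by
      simp [RingAut.mul_apply, map_mul]))

theorem decFrac_mk (σ : dec G q) (x : R) :
    decFrac G q σ (algebraMap (R ⧸ q) (FractionRing (R ⧸ q)) (Ideal.Quotient.mk q x)) =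
      algebraMap (R ⧸ q) (FractionRing (R ⧸ q)) (Ideal.Quotient.mk q ((σ : G) • x)) :=
  IsFractionRing.ringEquivOfRingEquiv_algebraMap (decHom G q σ) _

/-- The separating element. -/
theorem exists_theta :
    ∃ θ : R, (∀ τ ∈ q.inertia G, τ • θ = θ) ∧ ∀ σ : G, σ • θ - θ ∈ q → σ ∈ q.inertia G := by
  classical
  let L := FractionRing (R ⧸ q)
  let ι : R →+* L := (algebraMap (R ⧸ q) L).comp (Ideal.Quotient.mk q)
  have hι : ∀ x, ι x = 0 ↔ x ∈ q := fun x => by
    show algebraMap (R ⧸ q) L (Ideal.Quotient.mk q x) = 0 ↔ _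
    rw [map_eq_zero_iff _ (IsFractionRing.injective (R ⧸ q) L), Ideal.Quotient.eq_zero_iff_mem]
  letI : MulSemiringAction (dec G q) L := MulSemiringAction.compHom L (decFrac G q)
  have hsmul : ∀ (σ : dec G q) (x : R), σ • ι x = ι ((σ : G) • x) := decFrac_mk G q
  let k := FixedPoints.subfield (dec G q) L
  obtain ⟨w, hw0, hw⟩ := exists_rigid k L
  obtain ⟨⟨a', b'⟩, hab⟩ := IsLocalization.surj (nonZeroDivisors (R ⧸ q)) w
  obtain ⟨a, rfl⟩ := Ideal.Quotient.mk_surjective a'
  obtain ⟨b, hb⟩ := Ideal.Quotient.mk_surjective (b' : R ⧸ q)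
  have hb0 : ι b ≠ 0 := by
    show algebraMap (R ⧸ q) L (Ideal.Quotient.mk q b) ≠ 0
    rw [hb]
    exact (IsLocalization.map_units L b').ne_zero
  have hw' : w * ι b = ι a := by
    show w * algebraMap (R ⧸ q) L (Ideal.Quotient.mk q b) = _
    rw [hb]; exact hab
  letI := Fintype.ofFinite G
  -- an element in every conjugate prime but `q`
  have hch : ∀ σ : G, ∃ y : R, y ∉ q ∧ (σ ∉ dec G q → σ • y ∈ q) := by
    intro σ
    by_cases h : σ ∈ dec G q
    · exact ⟨1, fun h1 => Ideal.IsPrime.ne_top ‹_› ((Ideal.eq_top_iff_one _).2 h1), fun h' => absurd h h'⟩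
    · by_contra hcon
      push Not at hcon
      exact h fun x => mem_iff_of_forall_mem q (fun y hy => by
        by_contra hyq
        exact (hcon y hyq).2 hy) x
  choose y hy hyσ using hch
  let Y := ∏ σ, y σ
  have hYq : Y ∉ q := fun h => by
    obtain ⟨σ, -, hσ⟩ := (Ideal.IsPrime.prod_mem_iff (hp := (inferInstance : q.IsPrime))).1 h
    exact hy σ hσ
  -- its norm and the cleared rigid element
  let N : R → R := fun z => ∏ τ : dec G q, (τ : G) • z
  have hN : ∀ (σ : dec G q) z, σ • ι (N z) = ι (N z) := fun σ z => by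
    rw [hsmul, Finset.smul_prod', map_prod, map_prod]
    exact Fintype.prod_equiv (Equiv.mulLeft σ) _ _ fun τ => by rw [smul_smul]; rfl
  have hN0 : ∀ z, ι z ≠ 0 → ι (N z) ≠ 0 := fun z hz h => by
    obtain ⟨τ, -, hτ⟩ := (Ideal.IsPrime.prod_mem_iff (hp := (inferInstance : q.IsPrime))).1 ((hι _).1 h)
    exact hz ((hι z).2 ((τ.2 z).2 hτ))
  let e : R := N Y * (a * ∏ τ ∈ Finset.univ.erase (1 : dec G q), (τ : G) • b)
  have he : ι e = w * ι (N Y * N b) := by
    have : ι (N b) = ι b * ι (∏ τ ∈ Finset.univ.erase (1 : dec G q), (τ : G) • b) := by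
      rw [← map_mul]
      congr 1
      show (∏ τ : dec G q, (τ : G) • b) = _
      rw [← Finset.mul_prod_erase _ _ (Finset.mem_univ (1 : dec G q))]
      simp
    rw [map_mul, map_mul, map_mul, this, ← hw']
    ring
  have hc : ∀ σ : dec G q, σ • ι (N Y * N b) = ι (N Y * N b) := fun σ => by
    rw [map_mul, smul_mul', hN, hN]
  have hc0 : ι (N Y * N b) ≠ 0 := by
    rw [map_mul]
    exact mul_ne_zero (hN0 _ fun h => hYq ((hι _).1 h)) (hN0 _ hb0)
  have heσ : ∀ σ : G, σ ∉ dec G q → σ • e ∈ q := by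
    intro σ hσ
    rw [smul_mul', Finset.smul_prod', ← Finset.mul_prod_erase _ _ (Finset.mem_univ (1 : dec G q))]
    refine Ideal.mul_mem_right _ _ (Ideal.mul_mem_right _ _ ?_)
    rw [OneMemClass.coe_one, one_smul, Finset.smul_prod', ← Finset.mul_prod_erase _ _ (Finset.mem_univ σ)]
    exact Ideal.mul_mem_right _ _ (hyσ σ hσ)
  -- the invariant element
  let p := ringExpChar L
  haveI : ExpChar L p := inferInstance
  let I := q.inertia G
  letI := Fintype.ofFinite I
  obtain ⟨j, r, c, hj, hcne, ⟨M, hM⟩, hcoef⟩ := exists_coeff L p (Fintype.card I) Fintype.card_pos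
  let P : R[X] := ∏ τ : I, (X + C ((τ : G) • e))
  let θ := P.coeff j
  have hPfix : ∀ ρ ∈ I, P.map (MulSemiringAction.toRingHom G R ρ) = P := by
    intro ρ hρ
    rw [Polynomial.map_prod]
    refine Fintype.prod_equiv (Equiv.mulLeft (⟨ρ, hρ⟩ : I)) _ _ fun τ => ?_
    rw [Polynomial.map_add, map_X, map_C, MulSemiringAction.toRingHom_apply, smul_smul]
    rfl
  have hθ : ι θ = c * (w * ι (N Y * N b)) ^ p ^ r := by
    rw [← hcoef, ← coeff_map, Polynomial.map_prod]
    congr 1
    rw [← Finset.card_univ, ← Finset.prod_const]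
    refine Finset.prod_congr rfl fun τ _ => ?_
    rw [Polynomial.map_add, map_X, map_C, ← he]
    congr 2
    rw [← sub_eq_zero, ← map_sub]
    exact (hι _).2 (τ.2 e)
  have hθ0 : ι θ ≠ 0 := hθ ▸ mul_ne_zero hcne (pow_ne_zero _ (mul_ne_zero hw0 hc0))
  have hinD : ∀ τ ∈ I, τ ∈ dec G q := fun τ hτ z => by
    have h' : τ • z - z ∈ q := hτ z
    exact ⟨fun hz => by simpa using add_mem h' hz, fun hz => by simpa using sub_mem hz h'⟩
  refine ⟨θ, fun τ hτ => ?_, fun σ hσ => ?_⟩
  · have := congrArg (fun Q : R[X] => Q.coeff j) (hPfix τ hτ)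
    rw [coeff_map] at this
    exact this
  by_cases hσD : σ ∈ dec G q
  · have hfix : (⟨σ, hσD⟩ : dec G q) • ι θ = ι θ := by
      rw [hsmul, ← sub_eq_zero, ← map_sub]
      exact (hι _).2 hσ
    rw [hθ, smul_mul', smul_pow', smul_mul', hc, ← hM] at hfix
    have hMfix : (⟨σ, hσD⟩ : dec G q) • (M : L) = M :=
      map_natCast (MulSemiringAction.toRingHom (dec G q) L ⟨σ, hσD⟩) M
    rw [hMfix] at hfix
    have hww := mul_right_cancel₀ hc0
      ((iterateFrobenius L p r).injective (mul_left_cancel₀ (hM ▸ hcne) hfix))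
    have hid := hw (MulSemiringAction.toAlgHom k L (⟨σ, hσD⟩ : dec G q)) hww
    intro x
    have hx : (⟨σ, hσD⟩ : dec G q) • ι x = ι x := DFunLike.congr_fun hid (ι x)
    rw [hsmul, ← sub_eq_zero, ← map_sub] at hx
    exact (hι _).1 hx
  · exfalso
    have hσθ : σ • θ ∈ q := by
      have h1 : (P.map (MulSemiringAction.toRingHom G R σ)).map (Ideal.Quotient.mk q) = X ^ Fintype.card I := by
        rw [Polynomial.map_prod, Polynomial.map_prod, ← Finset.card_univ, ← Finset.prod_const]
        refine Finset.prod_congr rfl fun τ _ => ?_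
        rw [Polynomial.map_add, Polynomial.map_add, map_X, map_X, map_C, map_C, MulSemiringAction.toRingHom_apply,
          smul_smul, Ideal.Quotient.eq_zero_iff_mem.2 (heσ (σ * τ) ?_), map_zero, add_zero]
        intro h
        exact hσD (by simpa using (dec G q).mul_mem h ((dec G q).inv_mem (hinD _ τ.2)))
      have h3 := congrArg (fun Q : (R ⧸ q)[X] => Q.coeff j) h1
      simp only [coeff_map, coeff_X_pow, if_neg (Nat.ne_of_lt hj)] at h3
      exact Ideal.Quotient.eq_zero_iff_mem.1 h3
    exact hθ0 ((hι _).2 (by simpa using sub_mem hσθ hσ))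

end Groth.Agent.InertiaGen
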